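import Mathlib
import Cfsg.Prelude
import Cfsg.Agent.S0731
import Cfsg.Agent.Lib.Block.PrimeMultiplicative
import Cfsg.Agent.Lib.Transfer.Elements

/-!
A simple group with the subgroups delivered by the Brauer–Suzuki–Wall theorem is a two-dimensional
projective special linear group over a field of odd order.
-/

set_option autoImplicit false
set_option linter.unusedSectionVars false

open scoped Pointwise

namespace Cfsg.Agent.Block.BSWRec

variable {G : Type*} [Group G] [Finite G]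

theorem mem_sup_of_le_normalizer {N H : Subgroup G} (hLE : H ≤ Subgroup.normalizer (N : Set G))
    {x : G} (hx : x ∈ N ⊔ H) : ∃ n ∈ N, ∃ h ∈ H, x = n * h := by
  have h1 : x ∈ ((N ⊔ H : Subgroup G) : Set G) := hx
  rw [Subgroup.coe_mul_of_right_le_normalizer_left _ _ hLE] at h1
  obtain ⟨n, hn, h, hh, rfl⟩ := h1
  exact ⟨n, hn, h, hh, rfl⟩

theorem eq_one_or_self_of_mem_zpowers {u : G} (hu : orderOf u = 2) {z : G}
    (hz : z ∈ Subgroup.zpowers u) : z = 1 ∨ z = u := by
  obtain ⟨k, rfl⟩ := hz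
  change u ^ k = 1 ∨ u ^ k = u
  rw [← zpow_mod_orderOf, hu]
  rcases Int.emod_two_eq_zero_or_one k with h | h
  · left; rw [show k % ((2 : ℕ) : ℤ) = 0 from h, zpow_zero]
  · right; rw [show k % ((2 : ℕ) : ℤ) = 1 from h, zpow_one]

theorem comm_of_cent {Q : Subgroup G}
    (hQ : ∀ x ∈ Q, x ≠ 1 → Subgroup.centralizer ({x} : Set G) = Q) {x y : G} (hx : x ∈ Q)
    (hy : y ∈ Q) : y * x = x * y := by
  by_cases h : x = 1
  · rw [h, one_mul, mul_one]
  · exact Subgroup.mem_centralizer_singleton_iff.1 (by rw [hQ x hx h]; exact hy)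

theorem subgroup_eq_of_card {α : Type*} [Group α] [Finite α] [IsCyclic α] {H H' : Subgroup α}
    (h : Nat.card ↥H = Nat.card ↥H') : H = H' := by
  classical
  cases nonempty_fintype α
  have key : ∀ L : Subgroup α, Nat.card ↥L = Nat.card ↥H →
      (L : Set α).toFinset = Finset.univ.filter fun a => a ^ Nat.card ↥H = 1 := by
    intro L hL
    refine Finset.eq_of_subset_of_card_le (fun a ha => ?_) ?_
    · rw [Set.mem_toFinset] at ha
      rw [Finset.mem_filter]
      exact ⟨Finset.mem_univ _, hL ▸ congrArg Subtype.val (pow_card_eq_one' (x := (⟨a, ha⟩ : ↥L)))⟩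
    · rw [Set.toFinset_card, ← Nat.card_eq_fintype_card]
      exact (IsCyclic.card_pow_eq_one_le Nat.card_pos).trans (le_of_eq hL.symm)
  exact SetLike.coe_injective (Set.toFinset_inj.1 ((key H rfl).trans (key H' h.symm).symm))

theorem psl_of_data [IsSimpleGroup G] (hna : ¬ ∀ a b : G, a * b = b * a) (Q D : Subgroup G)
    (hcard : 2 * Nat.card G = Nat.card ↥Q * (Nat.card ↥Q + 1) * (Nat.card ↥Q - 1))
    (hQ : ∀ x ∈ Q, x ≠ 1 → Subgroup.centralizer ({x} : Set G) = Q)
    (hDab : IsMulCommutative ↥D) (hDcard : 2 * Nat.card ↥D + 1 = Nat.card ↥Q) (hQD : Q ⊓ D = ⊥)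
    (hNQ : Subgroup.normalizer (Q : Set G) = Q ⊔ D)
    (hX : ∀ X : Subgroup G, X ≤ D → X ≠ ⊥ →
      Subgroup.normalizer (X : Set G) = Subgroup.normalizer (D : Set G) ∧
      ∃ u : G, orderOf u = 2 ∧ u ∉ D ∧ (∀ d ∈ D, u * d * u⁻¹ = d⁻¹) ∧
        Subgroup.normalizer (D : Set G) = D ⊔ Subgroup.zpowers u) :
    ∃ (F : Type) (_ : Field F) (_ : Fintype F), Odd (Fintype.card F) ∧
      Nonempty (G ≃* Matrix.ProjectiveSpecialLinearGroup (Fin 2) F) := by
  classical
  obtain ⟨d, hd⟩ : ∃ d, Nat.card ↥D = d := ⟨_, rfl⟩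
  obtain ⟨q, hq⟩ : ∃ q, Nat.card ↥Q = q := ⟨_, rfl⟩
  rw [hd, hq] at hDcard
  rw [hq] at hcard
  have hd0 : 0 < d := hd ▸ Nat.card_pos
  have hco : Nat.Coprime q d := by
    rw [← hDcard, Nat.coprime_mul_right_add_left]
    exact Nat.coprime_one_left d
  have hG : Nat.card G = q * d * (q + 1) := by
    have h1 : q - 1 = 2 * d := by omega
    rw [h1] at hcard
    refine Nat.eq_of_mul_eq_mul_left (show 0 < 2 by norm_num) ?_
    rw [hcard]; ring
  have hQab : ∀ x ∈ Q, ∀ y ∈ Q, x * y = y * x := fun x hx y hy => comm_of_cent hQ hy hx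
  obtain ⟨M, hM⟩ : ∃ M, M = Subgroup.normalizer (Q : Set G) := ⟨_, rfl⟩
  rw [← hM] at hNQ
  have hQM : Q ≤ M := hNQ ▸ le_sup_left
  have hDM : D ≤ M := hNQ ▸ le_sup_right
  have hDN : D ≤ Subgroup.normalizer (Q : Set G) := hM ▸ hDM
  have hdec : ∀ y ∈ M, ∃ v ∈ Q, ∃ e ∈ D, y = v * e := fun y hy =>
    mem_sup_of_le_normalizer hDN (hNQ ▸ hy)
  have hdisj : Disjoint Q D := disjoint_iff.2 hQD
  have hMcard : Nat.card ↥M = q * d := by
    rw [← hq, ← hd, ← Nat.card_prod]
    refine (Nat.card_congr (Equiv.ofBijective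
      (fun p : ↥Q × ↥D => (⟨(p.1 : G) * p.2, mul_mem (hQM p.1.2) (hDM p.2.2)⟩ : ↥M)) ⟨?_, ?_⟩)).symm
    · intro p p' h
      exact Subgroup.mul_injective_of_disjoint hdisj (congrArg Subtype.val h)
    · rintro ⟨y, hy⟩
      obtain ⟨v, hv, e, he, rfl⟩ := hdec y hy
      exact ⟨(⟨v, hv⟩, ⟨e, he⟩), rfl⟩
  have hqpos : 0 < q := hq ▸ Nat.card_pos
  have hMidx : M.index = q + 1 := by
    have h1 := M.card_mul_index
    rw [hMcard, hG] at h1
    exact Nat.eq_of_mul_eq_mul_left (Nat.mul_pos hqpos hd0) h1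
  haveI hQn : (Q.subgroupOf M).Normal := (Subgroup.normal_subgroupOf_iff_le_normalizer hQM).2 hM.le
  have hQidx : (Q.subgroupOf M).index = d := by
    have h1 := (Q.subgroupOf M).card_mul_index
    rw [hMcard, Nat.card_congr (Subgroup.subgroupOfEquivOfLe hQM).toEquiv, hq] at h1
    exact Nat.eq_of_mul_eq_mul_left hqpos h1
  have hmemQ : ∀ y ∈ M, (orderOf y).Coprime d → y ∈ Q := by
    intro y hy hc
    have h1 := (Q.subgroupOf M).pow_index_mem ⟨y, hy⟩
    rw [hQidx, Subgroup.mem_subgroupOf, Subgroup.coe_pow] at h1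
    exact Transfer.mem_of_pow_mem h1 hc
  have hordQ : ∀ x ∈ Q, orderOf x ∣ q := fun x hx => hq ▸ Q.orderOf_dvd_natCard hx
  have hordD : ∀ x ∈ D, orderOf x ∣ d := fun x hx => hd ▸ D.orderOf_dvd_natCard hx
  have hQDone : ∀ x, x ∈ Q → x ∈ D → x = 1 := fun x h1 h2 => by
    have h3 : x ∈ Q ⊓ D := ⟨h1, h2⟩
    rwa [hQD, Subgroup.mem_bot] at h3
  have hfpf : ∀ e ∈ D, e ≠ 1 → ∀ x ∈ Q, e * x = x * e → x = 1 := by
    intro e he he1 x hx hc
    by_contra hx1
    have h1 : e ∈ Q := by rw [← hQ x hx hx1]; exact Subgroup.mem_centralizer_singleton_iff.2 hc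
    exact he1 (hQDone e h1 he)
  -- the degenerate case
  have hD1 : D ≠ ⊥ := by
    intro e
    rw [e, Subgroup.card_bot] at hd
    subst hd
    have hq3 : q = 3 := by omega
    subst hq3
    haveI : Fact (Nat.Prime 3) := ⟨Nat.prime_three⟩
    have hfac : (12 : ℕ).factorization 3 = 1 := by
      have h := Nat.factorization_mul (a := 4) (b := 3) (by norm_num) (by norm_num)
      rw [show (12 : ℕ) = 4 * 3 by norm_num, h, Finsupp.add_apply,
        Nat.factorization_eq_zero_of_not_dvd (by norm_num : ¬ 3 ∣ 4),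
        Nat.Prime.factorization_self Nat.prime_three]
    obtain ⟨P, hP⟩ : ∃ P : Sylow 3 G, (P : Subgroup G) = Q :=
      ⟨Sylow.ofCard Q (by rw [hq, hG, show 3 * 1 * (3 + 1) = 12 by norm_num, hfac, pow_one]),
        Sylow.coe_ofCard _ _⟩
    have hle : Subgroup.normalizer ((P : Subgroup G) : Set G) ≤
        Subgroup.centralizer ((P : Subgroup G) : Set G) := by
      rw [hP, ← hM, hNQ, e, sup_bot_eq]
      intro x hx
      exact Subgroup.mem_centralizer_iff.2 fun y hy => hQab y hy x hx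
    have hcomp := MonoidHom.ker_transferSylow_isComplement' P hle
    have hc := hcomp.card_mul
    have hP3 : Nat.card ↥(P : Subgroup G) = 3 := by rw [hP, hq]
    rw [hG, hP3] at hc
    rcases Subgroup.Normal.eq_bot_or_eq_top (MonoidHom.normal_ker (MonoidHom.transferSylow P hle))
      with h | h
    · rw [h, Subgroup.card_bot] at hc; omega
    · rw [h, Subgroup.card_top, hG] at hc; omega
  obtain ⟨-, u, hu, huD, hinv, hND⟩ := hX D le_rfl hD1
  obtain ⟨e₀, he₀, he₀1⟩ := (Subgroup.bot_or_exists_ne_one D).resolve_left hD1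
  have hQ1 : Q ≠ ⊥ := fun h => by rw [h, Subgroup.card_bot] at hq; omega
  -- `D` is cyclic
  haveI hDcyc : IsCyclic ↥D := by
    have hc := PrimeMul.isCyclic_of_fpf (D.subgroupOf M) (Q.subgroupOf M)
      (fun h => hQ1 (by rw [Subgroup.subgroupOf_eq_bot, disjoint_iff, inf_eq_left.2 hQM] at h; exact h))
      (fun h => hD1 (by rw [Subgroup.subgroupOf_eq_bot, disjoint_iff, inf_eq_left.2 hDM] at h; exact h))
      (fun a ha b hb => Subtype.ext (congrArg (fun z : ↥D => (z : G))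
        (hDab.is_comm.comm (⟨(a : G), Subgroup.mem_subgroupOf.1 ha⟩ : ↥D)
          ⟨(b : G), Subgroup.mem_subgroupOf.1 hb⟩)))
      (fun a ha ha1 x hx hc => Subtype.ext (hfpf _ (Subgroup.mem_subgroupOf.1 ha)
        (fun h => ha1 (Subtype.ext h)) _ (Subgroup.mem_subgroupOf.1 hx) (congrArg Subtype.val hc)))
    exact isCyclic_of_surjective (Subgroup.subgroupOfEquivOfLe hDM).toMonoidHom
      (Subgroup.subgroupOfEquivOfLe hDM).surjective
  -- elements of `M` outside `Q` are conjugate under `Q` into `D`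
  have hconjD : ∀ y ∈ M, y ∉ Q → ∃ w ∈ Q, w * y * w⁻¹ ∈ D := by
    intro y hy hyQ
    obtain ⟨v, hv, e, he, rfl⟩ := hdec y hy
    have he1 : e ≠ 1 := by rintro rfl; exact hyQ (by rwa [mul_one])
    have hn : ∀ w ∈ Q, e * w * e⁻¹ ∈ Q := fun w hw =>
      (Subgroup.mem_normalizer_iff.1 (hDN he) w).1 hw
    let φ : ↥Q → ↥Q := fun w => ⟨(w : G)⁻¹ * (e * w * e⁻¹), mul_mem (inv_mem w.2) (hn w w.2)⟩
    have hφ : Function.Injective φ := by
      intro w z h
      have h1 : (w : G)⁻¹ * (e * w * e⁻¹) = (z : G)⁻¹ * (e * z * e⁻¹) := congrArg Subtype.val h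
      refine Subtype.ext (mul_inv_eq_one.1 (hfpf e he he1 _ (mul_mem z.2 (inv_mem w.2)) ?_)).symm
      calc e * ((z : G) * (w : G)⁻¹) = z * ((z : G)⁻¹ * (e * z * e⁻¹)) * e * (w : G)⁻¹ := by group
        _ = z * ((w : G)⁻¹ * (e * w * e⁻¹)) * e * (w : G)⁻¹ := by rw [h1]
        _ = z * (w : G)⁻¹ * e := by group
    obtain ⟨w, hw⟩ := Finite.surjective_of_injective hφ ⟨v, hv⟩
    refine ⟨w, w.2, ?_⟩
    have h1 : (w : G)⁻¹ * (e * w * e⁻¹) = v := congrArg Subtype.val hw
    have h2 : (w : G) * (v * e) * (w : G)⁻¹ = e := by rw [← h1]; group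
    rwa [h2]
  -- the action on the cosets of `M`
  set a : G ⧸ M := ((1 : G) : G ⧸ M) with ha
  have hstab : MulAction.stabilizer G a = M := MulAction.stabilizer_quotient M
  have hfix : ∀ (x g : G), x • (g : G ⧸ M) = (g : G ⧸ M) → g⁻¹ * x * g ∈ M := by
    intro x g h
    rw [MulAction.Quotient.smul_mk, eq_comm, QuotientGroup.eq, smul_eq_mul] at h
    rwa [mul_assoc]
  have hsemi : ∀ x ∈ Q, x ≠ 1 → ∀ ω : G ⧸ M, x • ω = ω → ω = a := by
    intro x hx hx1 ω h
    induction ω using QuotientGroup.induction_on with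
    | H g =>
    have hy := hfix x g h
    have hyo : orderOf (g⁻¹ * x * g) = orderOf x := by
      have := (MulAut.conj g⁻¹).orderOf_eq x
      rwa [MulAut.conj_apply, inv_inv] at this
    have hyQ : g⁻¹ * x * g ∈ Q := hmemQ _ hy (by
      rw [hyo]; exact Nat.Coprime.coprime_dvd_left (hordQ x hx) hco)
    have hy1 : g⁻¹ * x * g ≠ 1 := fun e => hx1 (by
      rw [← orderOf_eq_one_iff, ← hyo, e, orderOf_one])
    have hgM : g⁻¹ ∈ M := by
      rw [hM, Subgroup.mem_normalizer_iff]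
      intro z
      rw [inv_inv]
      conv_lhs => rw [← hQ x hx hx1]
      conv_rhs => rw [← hQ _ hyQ hy1]
      rw [Subgroup.mem_centralizer_singleton_iff, Subgroup.mem_centralizer_singleton_iff]
      constructor
      · intro e
        calc g⁻¹ * z * g * (g⁻¹ * x * g) = g⁻¹ * (z * x) * g := by group
          _ = g⁻¹ * (x * z) * g := by rw [e]
          _ = g⁻¹ * x * g * (g⁻¹ * z * g) := by group
      · intro e
        calc z * x = g * (g⁻¹ * z * g * (g⁻¹ * x * g)) * g⁻¹ := by group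
          _ = g * (g⁻¹ * x * g * (g⁻¹ * z * g)) * g⁻¹ := by rw [e]
          _ = x * z := by group
    rw [ha, QuotientGroup.eq, mul_one]
    exact hgM
  have hQa : ∀ v : ↥Q, (v : G) • a = a := fun v => by
    rw [← MulAction.mem_stabilizer_iff, hstab]; exact hQM v.2
  have hΩ : Nat.card (G ⧸ M) = q + 1 := hMidx
  haveI : Finite (G ⧸ M) := inferInstance
  have hreg : ∀ y z : G ⧸ M, y ≠ a → z ≠ a → ∃! v : Q, (v : G) • y = z := by
    intro y z hy hz
    let f : ↥Q → {ω : G ⧸ M // ω ≠ a} := fun v => ⟨(v : G) • y, fun e => hy (by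
      have h1 : (v : G) • y = (v : G) • a := by rw [e, hQa]
      exact MulAction.injective (v : G) h1)⟩
    have hinj : Function.Injective f := by
      intro v w h
      have h1 : (v : G) • y = (w : G) • y := congrArg Subtype.val h
      by_contra hne
      refine hy (hsemi ((w : G)⁻¹ * v) (mul_mem (inv_mem w.2) v.2) (fun e => hne ?_) y ?_)
      · exact Subtype.ext (inv_mul_eq_one.1 e).symm
      · rw [mul_smul, h1, inv_smul_smul]
    have hc : Nat.card ↥Q = Nat.card {ω : G ⧸ M // ω ≠ a} := by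
      haveI := Fintype.ofFinite (G ⧸ M)
      rw [hq, Nat.card_eq_fintype_card, Fintype.card_subtype_compl, Fintype.card_subtype_eq,
        ← Nat.card_eq_fintype_card, hΩ]
      omega
    obtain ⟨v, hv⟩ := ((Nat.bijective_iff_injective_and_card f).2 ⟨hinj, hc⟩).2 ⟨z, hz⟩
    refine ⟨v, congrArg Subtype.val hv, fun w hw => hinj ?_⟩
    rw [hv]
    exact Subtype.ext hw
  have hto : ∀ ω : G ⧸ M, ∃ g : G, g • ω = a := fun ω => MulAction.exists_smul_eq G ω a
  have h2t : MulAction.IsMultiplyPretransitive G (G ⧸ M) 2 := by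
    rw [MulAction.is_two_pretransitive_iff]
    intro x y x' y' hxy hxy'
    obtain ⟨g, hg⟩ := hto x
    obtain ⟨g', hg'⟩ := hto x'
    have h1 : g • y ≠ a := fun e => hxy (MulAction.injective g (hg.trans e.symm))
    have h2 : g' • y' ≠ a := fun e => hxy' (MulAction.injective g' (hg'.trans e.symm))
    obtain ⟨v, hv, -⟩ := hreg _ _ h1 h2
    refine ⟨g'⁻¹ * v * g, ?_, ?_⟩
    · rw [mul_smul, mul_smul, hg, hQa, inv_smul_eq_iff, hg']
    · rw [mul_smul, mul_smul, hv, inv_smul_smul]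
  -- fixed points of the elements of `D`
  set b : G ⧸ M := (u : G ⧸ M) with hb
  have huM : u ∉ M := by
    intro h
    obtain ⟨v, hv, e, he, huv⟩ := hdec u h
    have he0 : ∀ x ∈ D, v * x * v⁻¹ = x⁻¹ := by
      intro x hx
      have hcx : e * x * e⁻¹ = x := by
        have h1 : e * x = x * e := congrArg Subtype.val (hDab.is_comm.comm (⟨e, he⟩ : ↥D) ⟨x, hx⟩)
        rw [h1, mul_inv_cancel_right]
      rw [← hinv x hx, huv]
      conv_lhs => rw [← hcx]
      group
    have h1 : v⁻¹ * (e₀ * v * e₀⁻¹) ∈ Q ⊓ D := by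
      refine Subgroup.mem_inf.2 ⟨mul_mem (inv_mem hv) ((Subgroup.mem_normalizer_iff.1 (hDN he₀) v).1 hv), ?_⟩
      have h2 : v⁻¹ * e₀ * v = e₀⁻¹ := by
        have := he0 e₀⁻¹ (inv_mem he₀)
        rw [inv_inv] at this
        calc v⁻¹ * e₀ * v = v⁻¹ * (v * e₀⁻¹ * v⁻¹) * v := by rw [this]
          _ = e₀⁻¹ := by group
      rw [show v⁻¹ * (e₀ * v * e₀⁻¹) = v⁻¹ * e₀ * v * e₀⁻¹ by group, h2]
      exact mul_mem (inv_mem he₀) (inv_mem he₀)
    rw [hQD, Subgroup.mem_bot, inv_mul_eq_one, eq_mul_inv_iff_mul_eq] at h1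
    have hv1 := hfpf e₀ he₀ he₀1 v hv h1.symm
    rw [hv1, one_mul] at huv
    exact huD (huv ▸ he)
  have hba : b ≠ a := fun e => huM (by
    rw [hb, ha, QuotientGroup.eq, mul_one] at e
    simpa using inv_mem e)
  have hfixD : ∀ e ∈ D, e ≠ 1 → ∀ ω : G ⧸ M, e • ω = ω → ω = a ∨ ω = b := by
    intro e he he1 ω h
    induction ω using QuotientGroup.induction_on with
    | H g =>
    have hy := hfix e g h
    have hyo : orderOf (g⁻¹ * e * g) = orderOf e := by
      have := (MulAut.conj g⁻¹).orderOf_eq e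
      rwa [MulAut.conj_apply, inv_inv] at this
    have hyQ : g⁻¹ * e * g ∉ Q := fun h' => he1 (orderOf_eq_one_iff.1
      (Nat.eq_one_of_dvd_coprimes hco (hyo ▸ hordQ _ h') (hordD e he)))
    obtain ⟨w, hw, hwD⟩ := hconjD _ hy hyQ
    set k := g * w⁻¹ with hk
    have hk' : k⁻¹ * e * k ∈ D := by
      rw [show k⁻¹ * e * k = w * (g⁻¹ * e * g) * w⁻¹ by rw [hk]; group]
      exact hwD
    have hgk : (g : G ⧸ M) = (k : G ⧸ M) := by
      rw [QuotientGroup.eq, hk, inv_mul_cancel_left]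
      exact inv_mem (hQM hw)
    have hko : orderOf (k⁻¹ * e * k) = orderOf e := by
      have := (MulAut.conj k⁻¹).orderOf_eq e
      rwa [MulAut.conj_apply, inv_inv] at this
    have hz : Subgroup.zpowers (k⁻¹ * e * k) = Subgroup.zpowers e := by
      have h1 : Subgroup.zpowers (⟨_, hk'⟩ : ↥D) = Subgroup.zpowers (⟨e, he⟩ : ↥D) := by
        refine subgroup_eq_of_card ?_
        rw [Nat.card_zpowers, Nat.card_zpowers, Subgroup.orderOf_mk, Subgroup.orderOf_mk, hko]
      have h2 := congrArg (Subgroup.map D.subtype) h1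
      simpa [MonoidHom.map_zpowers] using h2
    have hkN : k⁻¹ ∈ Subgroup.normalizer (Subgroup.zpowers e : Set G) := by
      rw [Subgroup.mem_normalizer_iff]
      intro z
      rw [inv_inv]
      constructor
      · intro hz'
        obtain ⟨i, rfl⟩ := hz'
        rw [← hz]
        refine ⟨i, ?_⟩
        change (k⁻¹ * e * k) ^ i = k⁻¹ * e ^ i * k
        have := conj_zpow (a := k⁻¹) (b := e) (i := i)
        rwa [inv_inv] at this
      · intro hz'
        rw [← hz] at hz'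
        obtain ⟨i, hi⟩ := hz'
        refine ⟨i, ?_⟩
        have := conj_zpow (a := k⁻¹) (b := e) (i := i)
        rw [inv_inv] at this
        change (k⁻¹ * e * k) ^ i = k⁻¹ * z * k at hi
        rw [this] at hi
        exact mul_left_cancel (mul_right_cancel hi)
    have hne : Subgroup.zpowers e ≠ ⊥ := fun h' => he1 (Subgroup.zpowers_eq_bot.1 h')
    rw [(hX _ (Subgroup.zpowers_le.2 he) hne).1, hND] at hkN
    have hkN' : k ∈ Subgroup.zpowers u ⊔ D := by
      rw [sup_comm]; simpa using inv_mem hkN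
    have hUN : Subgroup.zpowers u ≤ Subgroup.normalizer (D : Set G) := hND ▸ le_sup_right
    have h1 : k ∈ ((Subgroup.zpowers u ⊔ D : Subgroup G) : Set G) := hkN'
    rw [Subgroup.coe_mul_of_left_le_normalizer_right _ _ hUN] at h1
    obtain ⟨z, hz', f, hf, hkf⟩ := h1
    have hkz : (k : G ⧸ M) = (z : G ⧸ M) := by
      rw [← hkf, QuotientGroup.eq]
      simpa [mul_assoc] using hDM (inv_mem hf)
    rw [hgk, hkz]
    rcases eq_one_or_self_of_mem_zpowers hu hz' with rfl | rfl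
    · exact Or.inl rfl
    · exact Or.inr rfl
  have hD2 : e₀ • a = a ∧ e₀ • b = b := by
    refine ⟨by rw [← MulAction.mem_stabilizer_iff, hstab]; exact hDM he₀, ?_⟩
    rw [hb, MulAction.Quotient.smul_mk, QuotientGroup.eq, smul_eq_mul]
    have h1 : u⁻¹ * e₀⁻¹ * u = e₀ := by
      calc u⁻¹ * e₀⁻¹ * u = u⁻¹ * (u * e₀ * u⁻¹) * u := by rw [hinv e₀ he₀]
        _ = e₀ := by group
    rw [show (e₀ * u)⁻¹ * u = u⁻¹ * e₀⁻¹ * u by group, h1]
    exact hDM he₀
  have hMtop : M ≠ ⊤ := fun h => by rw [h, Subgroup.index_top] at hMidx; omega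
  have hZ : Cfsg.IsZassenhausGroup G (G ⧸ M) := by
    refine ⟨⟨fun {g₁ g₂} h => ?_⟩, h2t, ?_, ⟨e₀, he₀1, a, b, hba.symm, hD2.1, hD2.2⟩, ?_⟩
    · have h1 : g₂⁻¹ * g₁ ∈ M.normalCore := by
        rw [Subgroup.normalCore_eq_ker, MonoidHom.mem_ker]
        refine Equiv.ext fun ω => ?_
        change (g₂⁻¹ * g₁) • ω = ω
        rw [mul_smul, h, inv_smul_smul]
      rcases Subgroup.Normal.eq_bot_or_eq_top (Subgroup.normalCore_normal M) with h' | h'
      · rw [h', Subgroup.mem_bot] at h1; exact (inv_mul_eq_one.1 h1).symm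
      · exact absurd (top_le_iff.1 (h' ▸ M.normalCore_le)) hMtop
    · intro g x y z hxy hyz hxz hgx hgy hgz
      obtain ⟨k, hk⟩ := hto x
      have hmove : ∀ (c : G) (ω : G ⧸ M), g • ω = ω → (c * g * c⁻¹) • (c • ω) = c • ω := fun c ω h => by
        rw [mul_smul, mul_smul, inv_smul_smul, h]
      have hfa := hmove k x hgx
      rw [hk] at hfa
      have hM' : k * g * k⁻¹ ∈ M := by rwa [← hstab, MulAction.mem_stabilizer_iff]
      by_contra hg1
      have hne1 : k * g * k⁻¹ ≠ 1 := fun e => hg1 (conj_eq_one_iff.1 e)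
      have hyna : k • y ≠ a := fun e => hxy (MulAction.injective k (hk.trans e.symm))
      have hzna : k • z ≠ a := fun e => hxz (MulAction.injective k (hk.trans e.symm))
      have hyz' : k • y ≠ k • z := fun e => hyz (MulAction.injective k e)
      by_cases hgQ : k * g * k⁻¹ ∈ Q
      · exact hyna (hsemi _ hgQ hne1 _ (hmove k y hgy))
      obtain ⟨w, hw, hwD⟩ := hconjD _ hM' hgQ
      have heq : w * k * g * (w * k)⁻¹ = w * (k * g * k⁻¹) * w⁻¹ := by group
      have hne2 : w * (k * g * k⁻¹) * w⁻¹ ≠ 1 := fun e => hne1 (conj_eq_one_iff.1 e)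
      have hwa : ∀ ω : G ⧸ M, ω ≠ a → (w * k) • ((k⁻¹) • ω) ≠ a := fun ω hω e => hω (by
        rw [mul_smul, smul_inv_smul] at e
        exact MulAction.injective w (e.trans (hQa ⟨w, hw⟩).symm))
      have h1 := hfixD _ hwD hne2 _ (heq ▸ hmove (w * k) y hgy)
      have h2 := hfixD _ hwD hne2 _ (heq ▸ hmove (w * k) z hgz)
      have e1 := h1.resolve_left (by simpa using hwa _ hyna)
      have e2 := h2.resolve_left (by simpa using hwa _ hzna)
      exact hyz (MulAction.injective (w * k) (e1.trans e2.symm))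
    · intro N hN htr
      haveI := htr
      obtain ⟨m, hm⟩ := htr.exists_smul_eq a b
      rcases hN.eq_bot_or_eq_top with h | h
      · have : (m : G) = 1 := Subgroup.mem_bot.1 (h ▸ m.2)
        rw [Subgroup.smul_def, this, one_smul] at hm
        exact absurd hm.symm hba
      · subst h
        refine ⟨a, fun e => he₀1 ?_⟩
        have h1 : (⟨e₀, Subgroup.mem_top _⟩ : ↥(⊤ : Subgroup G)) ∈ MulAction.stabilizer (↥(⊤ : Subgroup G)) a := by
          rw [MulAction.mem_stabilizer_iff]; exact hD2.1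
        erw [e, Subgroup.mem_bot] at h1
        exact congrArg Subtype.val h1
  rcases Cfsg.Agent.S0731.result hZ a Q (by rw [hstab]; exact hQM)
      (by rw [hstab]; exact hQn) ⟨⟨fun x y => Subtype.ext (hQab x x.2 y y.2)⟩⟩ hreg with ⟨h3, h4⟩ | h
  · exfalso
    haveI := h3
    haveI := Fintype.ofFinite (G ⧸ M)
    obtain ⟨t⟩ : Nonempty (Fin 3 ↪ G ⧸ M) := Function.Embedding.nonempty_of_card_le (by
      rw [Fintype.card_fin, ← Nat.card_eq_fintype_card, hΩ]; omega)
    have hbij : Function.Bijective (fun g : G => g • t) := by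
      refine ⟨fun g g' h => ?_, fun t' => MulAction.exists_smul_eq G t t'⟩
      have h1 : g'⁻¹ * g ∈ MulAction.stabilizer G t := by
        rw [MulAction.mem_stabilizer_iff, mul_smul]
        exact inv_smul_eq_iff.2 h
      rw [h4 t, Subgroup.mem_bot, inv_mul_eq_one] at h1
      exact h1.symm
    have hc : Nat.card G = (q + 1).descFactorial 3 := by
      rw [Nat.card_eq_of_bijective _ hbij, Nat.card_eq_fintype_card, Fintype.card_embedding_eq,
        Fintype.card_fin, ← Nat.card_eq_fintype_card, hΩ]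
    have h5 : (q + 1).descFactorial 3 = (q - 1) * (q * (q + 1)) := by
      simp [Nat.descFactorial_succ]
    rw [hG, h5, show q - 1 = 2 * d by omega] at hc
    have h6 : 0 < q * d * (q + 1) := Nat.mul_pos (Nat.mul_pos hqpos hd0) (Nat.succ_pos _)
    nlinarith
  · obtain ⟨K, i1, i2, hK, hiso⟩ := h
    refine ⟨K, i1, i2, ?_, hiso⟩
    exact Nat.odd_iff.2 (FiniteField.odd_card_of_char_ne_two hK)

end Cfsg.Agent.Block.BSWRec
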