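import Mathlib
import Cfsg.Prelude
import Cfsg.Agent.S0514
import Cfsg.Agent.S0111
import Cfsg.Agent.S3282
import Cfsg.Agent.Lib.Grp.Cores
import Cfsg.Agent.Lib.Block.BSWRec.Recognize

/-!
Deriving the hypotheses of the abstract Brauer–Suzuki–Wall theorem from a dihedral Sylow subgroup and
a disjointness condition on the core of an involution centraliser.
-/

set_option autoImplicit false
set_option linter.unusedSectionVars false

open scoped Pointwise

namespace Cfsg.Agent.Block.BSWRec

theorem dihedral_two_props (a b : DihedralGroup 2) : a * a = 1 ∧ a * b = b * a := by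
  revert a b; decide

/-- Outside a cyclic subgroup of index two, a dihedral group has only inverting involutions. -/
theorem dihedral_outside {n : ℕ} (hn : 2 ≤ n) (R : Subgroup (DihedralGroup n)) (hc : IsCyclic ↥R)
    (hcard : Nat.card ↥R = n) {x : DihedralGroup n} (hx : x ∉ R) :
    x * x = 1 ∧ ∀ r ∈ R, x * r * x⁻¹ = r⁻¹ := by
  haveI : NeZero n := ⟨by omega⟩
  rcases eq_or_lt_of_le hn with rfl | h3
  · refine ⟨(dihedral_two_props x x).1, fun r _ => ?_⟩
    rw [(dihedral_two_props x r).2, mul_inv_cancel_right]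
    exact (inv_eq_of_mul_eq_one_right (dihedral_two_props r r).1).symm
  obtain ⟨g, hg⟩ := hc.exists_generator
  have hgo : orderOf (g : DihedralGroup n) = n := by
    rw [Subgroup.orderOf_coe, orderOf_eq_card_of_forall_mem_zpowers hg, hcard]
  have hrot : ∀ i : ZMod n, DihedralGroup.r i ∈ R := by
    have hle : R ≤ Subgroup.zpowers (DihedralGroup.r (1 : ZMod n)) := by
      intro y hy
      obtain ⟨k, hk⟩ := hg ⟨y, hy⟩
      have hk' : (g : DihedralGroup n) ^ k = y := congrArg Subtype.val hk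
      rw [← hk']
      refine Subgroup.zpow_mem _ ?_ k
      rcases hgv : (g : DihedralGroup n) with i | i
      · exact ⟨(i.val : ℤ), by simp [DihedralGroup.r_one_zpow]⟩
      · rw [hgv, DihedralGroup.orderOf_sr] at hgo
        omega
    have heq : R = Subgroup.zpowers (DihedralGroup.r (1 : ZMod n)) := Subgroup.eq_of_le_of_card_ge hle
      (by rw [Nat.card_zpowers, DihedralGroup.orderOf_r_one, hcard])
    intro i
    rw [heq]
    exact ⟨(i.val : ℤ), by simp [DihedralGroup.r_one_zpow]⟩
  rcases x with j | j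
  · exact absurd (hrot j) hx
  refine ⟨DihedralGroup.sr_mul_self j, ?_⟩
  intro r hr
  rcases r with i | i
  · simp [DihedralGroup.r_mul_sr, DihedralGroup.sr_mul_r, DihedralGroup.sr_mul_sr]
  · refine absurd (?_ : DihedralGroup.sr j ∈ R) hx
    have h := R.mul_mem hr (hrot (j - i))
    rwa [DihedralGroup.sr_mul_r, add_sub_cancel] at h

theorem central_mem_rotations {n : ℕ} (h3 : 3 ≤ n) {z : DihedralGroup n}
    (hz : ∀ y, y * z = z * y) : z ∈ Subgroup.zpowers (DihedralGroup.r (1 : ZMod n)) := by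
  haveI : NeZero n := ⟨by omega⟩
  rcases z with i | i
  · exact ⟨(i.val : ℤ), by simp [DihedralGroup.r_one_zpow]⟩
  exfalso
  have h := hz (DihedralGroup.r 1)
  simp only [DihedralGroup.r_mul_sr, DihedralGroup.sr_mul_r, DihedralGroup.sr.injEq] at h
  have h2 : ((2 : ℕ) : ZMod n) = 0 := by push_cast; linear_combination -h
  rw [ZMod.natCast_eq_zero_iff] at h2
  have := Nat.le_of_dvd (by norm_num) h2
  omega

universe u

variable {G : Type u} [Group G] [Finite G]

/-- A suitable cyclic subgroup of index two in the Sylow subgroup. -/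
theorem exists_index_two (S : Sylow 2 G) {n : ℕ} (hn : 2 ≤ n)
    (hS : Nonempty ((S : Subgroup G) ≃* DihedralGroup n)) {t : G} (ht : orderOf t = 2)
    (htS : t ∈ (S : Subgroup G)) (htZ : ∀ s ∈ (S : Subgroup G), s * t = t * s) (O : Subgroup G)
    (hOt : ∀ o ∈ O, o * t = t * o)
    (ha : O ≠ ⊥ → IsCyclic ((S : Subgroup G) ⊓ Subgroup.centralizer (O : Set G) : Subgroup G) ∧
      ((S : Subgroup G) ⊓ Subgroup.centralizer (O : Set G)).relIndex (S : Subgroup G) = 2)
    (hb : ∀ s ∈ (S : Subgroup G), s ∉ Subgroup.centralizer (O : Set G) → ∀ y ∈ O, s * y * s⁻¹ = y⁻¹) :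
    ∃ R : Subgroup G, R ≤ (S : Subgroup G) ∧ R.relIndex (S : Subgroup G) = 2 ∧ IsCyclic ↥R ∧ t ∈ R ∧
      R ≤ Subgroup.centralizer (O : Set G) ∧
      ∀ x ∈ (S : Subgroup G), x ∉ R → ∀ y ∈ O, x * y * x⁻¹ = y⁻¹ := by
  by_cases hO : O = ⊥
  · subst hO
    have htriv : ∀ x ∈ (S : Subgroup G), ∀ y ∈ (⊥ : Subgroup G), x * y * x⁻¹ = y⁻¹ := by
      intro x _ y hy; rw [Subgroup.mem_bot.1 hy]; simp
    have hcent : ∀ R : Subgroup G, R ≤ Subgroup.centralizer ((⊥ : Subgroup G) : Set G) := by
      intro R x _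
      rw [Subgroup.mem_centralizer_iff]
      intro y hy
      rw [Subgroup.mem_bot.1 (SetLike.mem_coe.1 hy), one_mul, mul_one]
    obtain ⟨e⟩ := hS
    haveI : NeZero n := ⟨by omega⟩
    have hScard : Nat.card ↥(S : Subgroup G) = 2 * n := by
      rw [Nat.card_congr e.toEquiv, DihedralGroup.nat_card]
    obtain ⟨R, hRS, hRcard, hRc, htR⟩ : ∃ R : Subgroup G, R ≤ (S : Subgroup G) ∧
        Nat.card ↥R = n ∧ IsCyclic ↥R ∧ t ∈ R := by
      rcases eq_or_lt_of_le hn with h2 | h3
      · refine ⟨Subgroup.zpowers t, Subgroup.zpowers_le.2 htS, ?_, inferInstance, Subgroup.mem_zpowers t⟩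
        rw [Nat.card_zpowers, ht, h2]
      · set f : DihedralGroup n →* G := (S : Subgroup G).subtype.comp e.symm.toMonoidHom with hf
        have hfinj : Function.Injective f :=
          (S : Subgroup G).subtype_injective.comp e.symm.injective
        refine ⟨(Subgroup.zpowers (DihedralGroup.r (1 : ZMod n))).map f, ?_, ?_, ?_, ?_⟩
        · rintro _ ⟨d, _, rfl⟩; exact (e.symm d).2
        · rw [Subgroup.card_map_of_injective hfinj, Nat.card_zpowers, DihedralGroup.orderOf_r_one]
        · rw [MonoidHom.map_zpowers]; infer_instance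
        · refine ⟨e ⟨t, htS⟩, central_mem_rotations h3 fun y => ?_, by simp [hf]⟩
          have h1 : e.symm y * (⟨t, htS⟩ : (S : Subgroup G)) = ⟨t, htS⟩ * e.symm y :=
            Subtype.ext (htZ _ (e.symm y).2)
          have h2 := congrArg e h1
          simpa using h2
    refine ⟨R, hRS, ?_, hRc, htR, hcent R, fun x hx _ => htriv x hx⟩
    have h1 := Transfer.card_mul_relIndex hRS
    rw [hRcard, hScard, mul_comm 2 n] at h1
    exact Nat.eq_of_mul_eq_mul_left (by omega) h1
  · obtain ⟨hc, hi⟩ := ha hO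
    refine ⟨(S : Subgroup G) ⊓ Subgroup.centralizer (O : Set G), inf_le_left, hi, hc,
      Subgroup.mem_inf.2 ⟨htS, Subgroup.mem_centralizer_iff.2 fun o ho => hOt o ho⟩, inf_le_right, ?_⟩
    exact fun x hx hxR => hb x hx fun h => hxR (Subgroup.mem_inf.2 ⟨hx, h⟩)

/-- In a cyclic subgroup an involution is unique. -/
theorem involution_eq {R : Subgroup G} (hR : IsCyclic ↥R) {a b : G} (ha : a ∈ R) (hb : b ∈ R)
    (ha2 : orderOf a = 2) (hb2 : orderOf b = 2) : a = b :=
  congrArg Subtype.val (Cfsg.Agent.Invol.involution_unique_of_isCyclic (G := ↥R)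
    (x := ⟨a, ha⟩) (y := ⟨b, hb⟩) (by rw [Subgroup.orderOf_mk]; exact ha2) (by rw [Subgroup.orderOf_mk]; exact hb2))

theorem iso_psl_of_dihedral [IsSimpleGroup G] (S : Sylow 2 G) (n : ℕ) (hn : 2 ≤ n)
    (hS : Nonempty ((S : Subgroup G) ≃* DihedralGroup n)) (t : G) (ht : orderOf t = 2)
    (htS : t ∈ (S : Subgroup G)) (htZ : ∀ s ∈ (S : Subgroup G), s * t = t * s) (O : Subgroup G)
    (hO : O = (Cfsg.oddCore (Subgroup.centralizer ({t} : Set G))).map
      (Subgroup.centralizer ({t} : Set G)).subtype)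
    (ha : O ≠ ⊥ → IsCyclic ((S : Subgroup G) ⊓ Subgroup.centralizer (O : Set G) : Subgroup G) ∧
      ((S : Subgroup G) ⊓ Subgroup.centralizer (O : Set G)).relIndex (S : Subgroup G) = 2)
    (hb : ∀ s ∈ (S : Subgroup G), s ∉ Subgroup.centralizer (O : Set G) → ∀ y ∈ O, s * y * s⁻¹ = y⁻¹)
    (hc : ∀ Y : Subgroup G, Y ≤ O → Y ≠ ⊥ →
      Subgroup.normalizer (Y : Set G) ≤ Subgroup.centralizer ({t} : Set G)) :
    ∃ (F : Type) (_ : Field F) (_ : Fintype F), Odd (Fintype.card F) ∧
      Nonempty (G ≃* Matrix.ProjectiveSpecialLinearGroup (Fin 2) F) := by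
  classical
  haveI : Fact (Nat.Prime 2) := ⟨Nat.prime_two⟩
  haveI : NeZero n := ⟨by omega⟩
  set C := Subgroup.centralizer ({t} : Set G) with hC
  have hmC : ∀ g, g ∈ C ↔ g * t = t * g := fun g => Subgroup.mem_centralizer_singleton_iff
  have hScard : Nat.card ↥(S : Subgroup G) = 2 * n := by
    obtain ⟨e⟩ := hS
    rw [Nat.card_congr e.toEquiv, DihedralGroup.nat_card]
  have hG4 : 4 ≤ Nat.card G :=
    (by omega : 4 ≤ Nat.card ↥(S : Subgroup G)).trans (Subgroup.card_le_card_group _)
  have hna : ¬ ∀ a b : G, a * b = b * a := by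
    intro h
    letI : CommGroup G := { (inferInstance : Group G) with mul_comm := h }
    have hp : (Nat.card G).Prime := IsSimpleGroup.prime_card
    have h2 : 2 ∣ Nat.card G := ht ▸ orderOf_dvd_natCard t
    have := (Nat.prime_dvd_prime_iff_eq Nat.prime_two hp).1 h2
    omega
  have hSC : (S : Subgroup G) ≤ C := fun s hs => (hmC s).2 (htZ s hs)
  have hOC : O ≤ C := hO ▸ Subgroup.map_subtype_le _
  have hOeq : O.subgroupOf C = Cfsg.oddCore ↥C := by
    rw [hO, Subgroup.subgroupOf, Subgroup.comap_map_eq_self_of_injective C.subtype_injective]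
  haveI hOn : (O.subgroupOf C).Normal := by rw [hOeq]; exact Grp.pPrimeCore_isNormal
  have hCN : C ≤ Subgroup.normalizer (O : Set G) :=
    (Subgroup.normal_subgroupOf_iff_le_normalizer hOC).1 hOn
  have hOodd : Odd (Nat.card ↥O) := by
    rw [hO, Subgroup.card_map_of_injective C.subtype_injective]
    exact Nat.coprime_two_right.1 Grp.pPrimeCore_coprime
  have hOmem : ∀ o ∈ O, Odd (orderOf o) := fun o ho => hOodd.of_dvd_nat (O.orderOf_dvd_natCard ho)
  have hOS : ∀ x ∈ O, x ∈ (S : Subgroup G) → x = 1 := by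
    intro x hx hxS
    obtain ⟨k, hk⟩ := IsPGroup.iff_orderOf.1 S.isPGroup' ⟨x, hxS⟩
    rw [Subgroup.orderOf_mk] at hk
    rcases Nat.eq_zero_or_pos k with rfl | hk0
    · exact orderOf_eq_one_iff.1 (by rw [hk, pow_zero])
    · exact absurd (hk ▸ (even_two.pow_of_ne_zero hk0.ne')) (Nat.not_even_iff_odd.2 (hOmem x hx))
  obtain ⟨R, hRS, hRi, hRc, htR, hRO, hRinv⟩ := exists_index_two S hn hS ht htS htZ O
    (fun o ho => (hmC o).1 (hOC ho)) ha hb
  obtain ⟨s, hsS, hsR⟩ : ∃ s ∈ (S : Subgroup G), s ∉ R := by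
    refine SetLike.not_le_iff_exists.1 fun h => ?_
    rw [Subgroup.relIndex_eq_one.2 h] at hRi
    exact absurd hRi (by norm_num)
  -- the elements of `S` outside `R`
  have hout : ∀ x ∈ (S : Subgroup G), x ∉ R → x * x = 1 ∧ ∀ r ∈ R, x * r * x⁻¹ = r⁻¹ := by
    intro x hx hxR
    obtain ⟨e⟩ := hS
    have hR' : Nat.card ↥R = n := by
      have h1 := Transfer.card_mul_relIndex hRS
      rw [hRi, hScard] at h1
      omega
    set R' := (R.subgroupOf (S : Subgroup G)).map e.toMonoidHom with hR'def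
    have hcyc : IsCyclic ↥R' := by
      haveI := hRc
      haveI : IsCyclic ↥(R.subgroupOf (S : Subgroup G)) := isCyclic_of_surjective
        (Subgroup.subgroupOfEquivOfLe hRS).symm.toMonoidHom (Subgroup.subgroupOfEquivOfLe hRS).symm.surjective
      exact isCyclic_of_surjective (Subgroup.equivMapOfInjective _ e.toMonoidHom e.injective).toMonoidHom
        (Subgroup.equivMapOfInjective _ e.toMonoidHom e.injective).surjective
    have hcard' : Nat.card ↥R' = n := by
      rw [hR'def, Subgroup.card_map_of_injective e.injective,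
        Nat.card_congr (Subgroup.subgroupOfEquivOfLe hRS).toEquiv, hR']
    have hx' : e ⟨x, hx⟩ ∉ R' := by
      rintro ⟨y, hy, he⟩
      have hye : y = ⟨x, hx⟩ := e.injective he
      rw [hye] at hy
      exact hxR hy
    obtain ⟨h1, h2⟩ := dihedral_outside hn R' hcyc hcard' hx'
    refine ⟨?_, fun r hr => ?_⟩
    · rw [← map_mul, MulEquiv.map_eq_one_iff] at h1
      exact congrArg Subtype.val h1
    · have h3 := h2 (e ⟨r, hRS hr⟩) ⟨⟨r, hRS hr⟩, hr, rfl⟩
      rw [← map_inv, ← map_inv, ← map_mul, ← map_mul] at h3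
      exact congrArg Subtype.val (e.injective h3)
  obtain ⟨hss, hsinvR⟩ := hout s hsS hsR
  have hs1 : s ≠ 1 := fun e => hsR (e ▸ R.one_mem)
  have hso : orderOf s = 2 := orderOf_eq_prime (by rw [pow_two, hss]) hs1
  have hsinvO := hRinv s hsS hsR
  have hOab : ∀ a ∈ O, ∀ b ∈ O, a * b = b * a := by
    intro a ha' b hb'
    have h1 := hsinvO (a * b) (mul_mem ha' hb')
    rw [show s * (a * b) * s⁻¹ = (s * a * s⁻¹) * (s * b * s⁻¹) by group, hsinvO a ha', hsinvO b hb',
      mul_inv_rev] at h1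
    calc a * b = (b⁻¹ * a⁻¹)⁻¹ := by group
      _ = (a⁻¹ * b⁻¹)⁻¹ := by rw [h1]
      _ = b * a := by group
  have hRab : ∀ a ∈ R, ∀ b ∈ R, a * b = b * a := fun a ha' b hb' => by
    haveI := hRc
    exact congrArg Subtype.val ((IsCyclic.commGroup (α := ↥R)).mul_comm ⟨a, ha'⟩ ⟨b, hb'⟩)
  have hOR : ∀ o ∈ O, ∀ r ∈ R, o * r = r * o := fun o ho r hr =>
    Subgroup.mem_centralizer_iff.1 (hRO hr) o ho
  have hRC : R ≤ C := hRS.trans hSC
  set K := O ⊔ R with hK
  have hKdec : ∀ x ∈ K, ∃ o ∈ O, ∃ r ∈ R, x = o * r := fun x hx =>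
    mem_sup_of_le_normalizer (hRC.trans hCN) hx
  have hKcomm : ∀ x ∈ K, ∀ y ∈ K, x * y = y * x := by
    intro x hx y hy
    obtain ⟨o, ho, r, hr, rfl⟩ := hKdec x hx
    obtain ⟨o', ho', r', hr', rfl⟩ := hKdec y hy
    exact (Commute.mul_left ((show Commute o o' from hOab o ho o' ho').mul_right (hOR o ho r' hr'))
      ((show Commute r o' from (hOR o' ho' r hr).symm).mul_right (hRab r hr r' hr'))).eq
  have hKinv : ∀ x ∈ K, s * x * s⁻¹ = x⁻¹ := by
    intro x hx
    obtain ⟨o, ho, r, hr, rfl⟩ := hKdec x hx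
    rw [show s * (o * r) * s⁻¹ = (s * o * s⁻¹) * (s * r * s⁻¹) by group, hsinvO o ho, hsinvR r hr,
      hOR o ho r hr, mul_inv_rev]
  have hKC : K ≤ C := sup_le hOC hRC
  have htK : t ∈ K := Subgroup.mem_sup_right htR
  have hsK : s ∉ K := by
    intro h
    obtain ⟨o, ho, r, hr, hor⟩ := hKdec s h
    have ho1 : o = 1 := hOS o ho (by
      rw [show o = s * r⁻¹ by rw [hor]; group]
      exact mul_mem hsS (inv_mem (hRS hr)))
    rw [ho1, one_mul] at hor
    exact hsR (hor ▸ hr)
  have hinvo : ∀ x ∈ K, x * x = 1 → x = 1 ∨ x = t := by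
    intro x hx hxx
    obtain ⟨o, ho, r, hr, rfl⟩ := hKdec x hx
    have hcom : Commute o r := hOR o ho r hr
    have h1 : (o * o) * (r * r) = 1 := by
      rw [← hxx]
      calc o * o * (r * r) = o * (o * r) * r := by group
        _ = o * (r * o) * r := by rw [hcom.eq]
        _ = o * r * (o * r) := by group
    have h2 : o * o = 1 := hOS _ (mul_mem ho ho) (by
      rw [eq_inv_of_mul_eq_one_left h1]
      exact inv_mem (mul_mem (hRS hr) (hRS hr)))
    have ho1 : o = 1 := by
      have h3 : orderOf o ∣ 2 := orderOf_dvd_of_pow_eq_one (by rw [pow_two, h2])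
      rcases (Nat.dvd_prime Nat.prime_two).1 h3 with h4 | h4
      · exact orderOf_eq_one_iff.1 h4
      · exact absurd (hOmem o ho) (by rw [h4]; decide)
    rw [h2, one_mul] at h1
    subst ho1
    rw [one_mul]
    by_cases hr1 : r = 1
    · exact Or.inl hr1
    · exact Or.inr (involution_eq hRc hr htR (orderOf_eq_prime (by rw [pow_two, h1]) hr1) ht)
  -- the structure of the centraliser of `t`
  have hCeq : O ⊔ (S : Subgroup G) = C := by
    refine le_antisymm (sup_le hOC hSC) ?_
    obtain ⟨N, hNn, hNodd, k, hNk⟩ := Cfsg.Agent.S0514.result S n hn hS t ht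
    have hNle : N ≤ Cfsg.oddCore ↥C := Grp.le_pPrimeCore hNn (Nat.coprime_two_right.2 hNodd)
    have hd1 : ((O ⊔ (S : Subgroup G)).subgroupOf C).index ∣ 2 ^ k := by
      rw [← hNk]
      refine Subgroup.index_dvd_of_le (hNle.trans ?_)
      rw [← hOeq]
      exact Subgroup.comap_mono le_sup_left
    have hd2 : ((O ⊔ (S : Subgroup G)).subgroupOf C).index ∣ (S.subtype hSC : Subgroup ↥C).index := by
      refine Subgroup.index_dvd_of_le ?_
      rw [Sylow.coe_subtype]
      exact Subgroup.comap_mono le_sup_right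
    have hodd : ¬ 2 ∣ (S.subtype hSC : Subgroup ↥C).index := (S.subtype hSC).not_dvd_index
    have h1 : ((O ⊔ (S : Subgroup G)).subgroupOf C).index = 1 :=
      Nat.eq_one_of_dvd_coprimes (((Nat.prime_two.coprime_iff_not_dvd).2 hodd).pow_left k) hd1 hd2
    exact Subgroup.subgroupOf_eq_top.1 (Subgroup.index_eq_one.1 h1)
  have hH : K ⊔ Subgroup.zpowers s = C := by
    refine le_antisymm (sup_le hKC (Subgroup.zpowers_le.2 (hSC hsS))) ?_
    conv_lhs => rw [← hCeq]
    refine sup_le (le_sup_left.trans le_sup_left) fun x hx => ?_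
    by_cases hxR : x ∈ R
    · exact Subgroup.mem_sup_left (Subgroup.mem_sup_right hxR)
    have h1 : (⟨s, hsS⟩ : (S : Subgroup G)) * ⟨x, hx⟩ ∈ R.subgroupOf (S : Subgroup G) := by
      rw [Subgroup.mul_mem_iff_of_index_two hRi]
      exact iff_of_false hsR hxR
    have h2 : x = s⁻¹ * (s * x) := by group
    rw [h2]
    exact mul_mem (inv_mem (Subgroup.mem_sup_right (Subgroup.mem_zpowers s)))
      (Subgroup.mem_sup_left (Subgroup.mem_sup_right h1))
  have hCdec : ∀ g ∈ C, g ∈ K ∨ ∃ k ∈ K, g = s * k := by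
    intro g hg
    have hN : Subgroup.zpowers s ≤ Subgroup.normalizer (K : Set G) := by
      rw [Subgroup.zpowers_le]
      refine Subgroup.mem_normalizer_iff.2 fun x => ⟨fun hx => by rw [hKinv x hx]; exact inv_mem hx, fun hx => ?_⟩
      have h1 := hKinv _ hx
      rw [inv_eq_of_mul_eq_one_right hss] at h1
      rw [show s * (s * x * s) * s = (s * s) * x * (s * s) by group, hss, one_mul, mul_one] at h1
      rw [h1]
      rw [inv_eq_of_mul_eq_one_right hss] at hx
      exact inv_mem hx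
    have h1 : g ∈ ((Subgroup.zpowers s ⊔ K : Subgroup G) : Set G) := by rw [sup_comm, hH]; exact hg
    rw [Subgroup.coe_mul_of_left_le_normalizer_right _ _ hN] at h1
    obtain ⟨z, hz, k, hk, rfl⟩ := h1
    rcases eq_one_or_self_of_mem_zpowers hso hz with rfl | rfl
    · left; simpa using hk
    · exact Or.inr ⟨k, hk, rfl⟩
  have hCK : K ⊓ Subgroup.centralizer ({s} : Set G) = Subgroup.zpowers t := by
    refine le_antisymm ?_ (Subgroup.zpowers_le.2 (Subgroup.mem_inf.2
      ⟨htK, Subgroup.mem_centralizer_singleton_iff.2 ((hmC s).1 (hSC hsS)).symm⟩))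
    intro x hx
    obtain ⟨hxK, hxs⟩ := Subgroup.mem_inf.1 hx
    have h1 := hKinv x hxK
    rw [← Subgroup.mem_centralizer_singleton_iff.1 hxs, mul_inv_cancel_right] at h1
    rcases hinvo x hxK (by nth_rewrite 2 [h1]; exact mul_inv_cancel x) with rfl | rfl
    · exact one_mem _
    · exact Subgroup.mem_zpowers _
  have hconjo : ∀ g x : G, orderOf (g * x * g⁻¹) = orderOf x := fun g x => (MulAut.conj g).orderOf_eq x
  have hTI : ∀ g : G, g ∉ C → K ⊓ K.map (MulAut.conj g).toMonoidHom = ⊥ := by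
    intro g hg
    rw [eq_bot_iff]
    intro x hx
    obtain ⟨hxK, k, hk, hkx⟩ := Subgroup.mem_inf.1 hx
    replace hkx : g * k * g⁻¹ = x := hkx
    rw [Subgroup.mem_bot]
    by_contra hx1
    obtain ⟨o, ho, r, hr, hor⟩ := hKdec x hxK
    by_cases hr1 : r = 1
    · rw [hr1, mul_one] at hor
      subst hor
      set u := g * t * g⁻¹ with hu
      have hxu : u * x = x * u := by
        rw [hu, ← hkx]
        calc g * t * g⁻¹ * (g * k * g⁻¹) = g * (t * k) * g⁻¹ := by group
          _ = g * (k * t) * g⁻¹ := by rw [(hmC k).1 (hKC hk)]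
          _ = g * k * g⁻¹ * (g * t * g⁻¹) := by group
      have huN : u ∈ Subgroup.normalizer (Subgroup.zpowers x : Set G) := by
        refine Subgroup.mem_normalizer_iff.2 fun z => ?_
        constructor
        · rintro ⟨i, rfl⟩
          refine ⟨i, ?_⟩
          change x ^ i = u * x ^ i * u⁻¹
          rw [((show Commute u x from hxu).zpow_right i).eq, mul_inv_cancel_right]
        · rintro ⟨i, hi⟩
          refine ⟨i, ?_⟩
          change x ^ i = z
          change x ^ i = u * z * u⁻¹ at hi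
          have h1 := ((show Commute u x from hxu).zpow_right i).eq
          rw [hi] at h1 ⊢
          calc u * z * u⁻¹ = u⁻¹ * (u * (u * z * u⁻¹)) := by group
            _ = u⁻¹ * (u * z * u⁻¹ * u) := by rw [h1]
            _ = z := by group
      have huC : u ∈ C := hc _ (Subgroup.zpowers_le.2 ho)
        (fun h => hx1 (Subgroup.zpowers_eq_bot.1 h)) huN
      have huK : u ∈ K := by
        rcases hCdec u huC with h | ⟨k', hk', hk''⟩
        · exact h
        exfalso
        have h1 : u * x * u⁻¹ = x⁻¹ := by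
          rw [hk'', show s * k' * x * (s * k')⁻¹ = s * (k' * x * k'⁻¹) * s⁻¹ by group,
            hKcomm k' hk' x hxK, mul_inv_cancel_right, hsinvO x ho]
        rw [hxu, mul_inv_cancel_right] at h1
        have h2 : orderOf x ∣ 2 := orderOf_dvd_of_pow_eq_one (by
          rw [pow_two]; nth_rewrite 2 [h1]; exact mul_inv_cancel x)
        rcases (Nat.dvd_prime Nat.prime_two).1 h2 with h4 | h4
        · exact hx1 (orderOf_eq_one_iff.1 h4)
        · exact absurd (hOmem x ho) (by rw [h4]; decide)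
      have huo : orderOf u = 2 := (hconjo g t).trans ht
      rcases hinvo u huK (by rw [← pow_two, ← huo]; exact pow_orderOf_eq_one u) with h | h
      · rw [h, orderOf_one] at huo; omega
      · exact hg ((hmC g).2 (by rw [hu] at h; exact mul_inv_eq_iff_eq_mul.1 h))
    · obtain ⟨j, hj⟩ : ∃ j : ℕ, x ^ j = t := by
        have hco : (orderOf r).Coprime (orderOf o) := by
          obtain ⟨i, hi⟩ := IsPGroup.iff_orderOf.1 S.isPGroup' ⟨r, hRS hr⟩
          rw [Subgroup.orderOf_mk] at hi
          rw [hi]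
          exact (Nat.coprime_two_left.2 (hOmem o ho)).pow_left i
        have hxm : x ^ orderOf o = r ^ orderOf o := by
          rw [hor, (show Commute o r from hOR o ho r hr).mul_pow, pow_orderOf_eq_one, one_mul]
        set y := r ^ orderOf o with hy
        have hy1 : y ≠ 1 := fun e => hr1 (orderOf_eq_one_iff.1
          (Nat.eq_one_of_dvd_coprimes hco dvd_rfl (orderOf_dvd_of_pow_eq_one e)))
        obtain ⟨i, hi⟩ := IsPGroup.iff_orderOf.1 S.isPGroup' ⟨y, hRS (pow_mem hr _)⟩
        rw [Subgroup.orderOf_mk] at hi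
        rcases i with _ | i
        · exact absurd (orderOf_eq_one_iff.1 (by rw [hi, pow_zero])) hy1
        refine ⟨orderOf o * 2 ^ i, ?_⟩
        rw [pow_mul, hxm]
        refine involution_eq hRc (pow_mem (pow_mem hr _) _) htR ?_ ht
        rw [orderOf_pow' _ (by positivity), hi, Nat.gcd_eq_right (pow_dvd_pow 2 (Nat.le_succ i)),
          pow_succ, Nat.mul_div_cancel_left _ (by positivity)]
      have h1 : g * k ^ j * g⁻¹ = t := by rw [← conj_pow, hkx, hj]
      have h2 : orderOf (k ^ j) = 2 := by rw [← hconjo g, h1, ht]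
      rcases hinvo (k ^ j) (pow_mem hk j) (by rw [← pow_two, ← h2]; exact pow_orderOf_eq_one _) with h | h
      · rw [h, orderOf_one] at h2; omega
      · exact hg ((hmC g).2 (by rw [h] at h1; exact mul_inv_eq_iff_eq_mul.1 h1))
  have hconj : ∀ x y : G, orderOf x = 2 → orderOf y = 2 → IsConj x y := by
    have key : ∀ a : G, orderOf a = 2 → IsConj a t := by
      intro a ha2
      obtain ⟨P, hP⟩ := (IsPGroup.of_card (p := 2) (n := 1) (G := Subgroup.zpowers a)
        (by rw [Nat.card_zpowers, ha2, pow_one])).exists_le_sylow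
      obtain ⟨g, hg⟩ := MulAction.exists_smul_eq G P S
      have hb' : g * a * g⁻¹ ∈ (S : Subgroup G) := by
        rw [← hg, Sylow.coe_subgroup_smul]
        exact Subgroup.smul_mem_pointwise_smul a (MulAut.conj g) _ (hP (Subgroup.mem_zpowers a))
      have hbo : orderOf (g * a * g⁻¹) = 2 := (hconjo g a).trans ha2
      by_cases hbR : g * a * g⁻¹ ∈ R
      · exact isConj_iff.2 ⟨g, involution_eq hRc hbR htR hbo ht⟩
      rcases Cfsg.Agent.S0111.result S R hRS hRi _ hbo hb' hbR with ⟨M, hMn, hMi, hMu⟩ | ⟨h, hh⟩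
      · rcases hMn.eq_bot_or_eq_top with e | e
        · rw [e, Subgroup.index_bot] at hMi; omega
        · exact absurd (e ▸ Subgroup.mem_top _) hMu
      · refine isConj_iff.2 ⟨h * g, involution_eq hRc ?_ htR ((hconjo _ a).trans ha2) ht⟩
        rw [show h * g * a * (h * g)⁻¹ = h * (g * a * g⁻¹) * h⁻¹ by group]
        exact hh
    exact fun x y hx hy => (key x hx).trans (key y hy).symm
  obtain ⟨Q, D, h1, h2, h3, h4, h5, h6, h7⟩ := Cfsg.Agent.S3282.result t ht K
    ⟨⟨fun a b => Subtype.ext (hKcomm a a.2 b b.2)⟩⟩ hKC htK s hso (hSC hsS) hsK hH hCK hKinv hTI hconj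
  exact psl_of_data hna Q D h1 h2 h3 h4 h5 h6 h7

end Cfsg.Agent.Block.BSWRec
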